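-- helper94: project PG (S2474, helper8), package [SPJ]: a symplectic matrix commuting with
-- `j = S ^ e`, `j * j = -1`, is an isometry of the quadratic form `v ↦ B(v, j v)`.
import Mathlib
import Cfsg.Agent.Lib.Helper8.PG.Defs

set_option autoImplicit false

universe u

namespace Cfsg.Agent.Lib.Helper94.PG

open Matrix Cfsg.Agent.Lib.Helper8.PG

section

variable {F : Type u} [Field F] {κ : Type} [Fintype κ] [DecidableEq κ]

/-- the quadratic form `v ↦ v ⬝ᵥ Y *ᵥ v`. -/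
noncomputable def qfOf (Y : Matrix κ κ F) : QuadraticForm F (κ → F) :=
  LinearMap.BilinMap.toQuadraticMap (Matrix.toLinearMap₂' F Y)

lemma qfOf_apply (Y : Matrix κ κ F) (v : κ → F) : qfOf Y v = v ⬝ᵥ Y *ᵥ v := by
  unfold qfOf
  rw [LinearMap.BilinMap.toQuadraticMap_apply, Matrix.toLinearMap₂'_apply']

lemma polar_qfOf (Y : Matrix κ κ F) (hY : Yᵀ = Y) (u v : κ → F) :
    QuadraticMap.polar (qfOf Y) u v = 2 * (u ⬝ᵥ Y *ᵥ v) := by
  have h1 : v ⬝ᵥ Y *ᵥ u = u ⬝ᵥ Y *ᵥ v := by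
    rw [Matrix.dotProduct_mulVec, ← Matrix.mulVec_transpose, hY, dotProduct_comm]
  unfold QuadraticMap.polar
  rw [qfOf_apply, qfOf_apply, qfOf_apply, Matrix.mulVec_add, add_dotProduct, dotProduct_add,
    dotProduct_add, h1]
  ring

lemma qfOf_nondeg (h2 : (2 : F) ≠ 0) (Y Yi : Matrix κ κ F) (hY : Yᵀ = Y) (hYi : Yi * Y = 1) :
    (QuadraticMap.polarBilin (qfOf Y)).Nondegenerate := by
  have key : ∀ x : κ → F, (∀ y, QuadraticMap.polar (qfOf Y) x y = 0) → x = 0 := by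
    intro x hx
    have h1 : Y *ᵥ x = 0 := by
      funext k
      have e := hx (Pi.single k 1)
      rw [polar_qfOf Y hY] at e
      have e2 : x ⬝ᵥ Y *ᵥ Pi.single k 1 = 0 := (mul_eq_zero.mp e).resolve_left h2
      rw [Matrix.dotProduct_mulVec, ← Matrix.mulVec_transpose, hY, dotProduct_single,
        mul_one] at e2
      exact e2
    calc x = (Yi * Y) *ᵥ x := by rw [hYi, Matrix.one_mulVec]
      _ = Yi *ᵥ (Y *ᵥ x) := by rw [Matrix.mulVec_mulVec]
      _ = 0 := by rw [h1, Matrix.mulVec_zero]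
  constructor
  · intro x hx
    apply key
    intro y
    have h := hx y
    rwa [QuadraticMap.polarBilin_apply_apply] at h
  · intro x hx
    apply key
    intro y
    have h := hx y
    rwa [QuadraticMap.polarBilin_apply_apply, QuadraticMap.polar_comm] at h

lemma qfOf_isom (Y M : Matrix κ κ F) (h : Mᵀ * Y * M = Y) (v : κ → F) :
    qfOf Y (M *ᵥ v) = qfOf Y v := by
  rw [qfOf_apply, qfOf_apply, Matrix.mulVec_mulVec, ← Matrix.vecMul_transpose M v,
    ← Matrix.dotProduct_mulVec, Matrix.mulVec_mulVec, ← Matrix.mul_assoc, h]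

end

/-- **[SPJ]** -/
theorem pkgSpJ : PkgSpJ.{u} := by
  intro F _ _ hodd n S e hj
  have h2 : (2 : F) ≠ 0 := by
    apply Ring.two_ne_zero
    intro hchar
    have := FiniteField.even_card_of_char_two hchar
    rcases hodd with ⟨k, hk⟩
    omega
  obtain ⟨j, hjdef⟩ : ∃ j : Matrix (Fin n ⊕ Fin n) (Fin n ⊕ Fin n) F, j = S.1 ^ e := ⟨_, rfl⟩
  rw [← hjdef] at hj
  have hjS : j ∈ Matrix.symplecticGroup (Fin n) F := by
    rw [hjdef]
    exact pow_mem S.2 e
  have hSJ : S.1ᵀ * J (Fin n) F * S.1 = J (Fin n) F := SymplecticGroup.mem_iff'.mp S.2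
  have hjJ : jᵀ * J (Fin n) F * j = J (Fin n) F := SymplecticGroup.mem_iff'.mp hjS
  have hjJ' : jᵀ * J (Fin n) F = -(J (Fin n) F * j) := by
    calc jᵀ * J (Fin n) F = jᵀ * J (Fin n) F * (j * (-j)) := by
          rw [Matrix.mul_neg, hj, neg_neg, Matrix.mul_one]
      _ = (jᵀ * J (Fin n) F * j) * (-j) := by rw [Matrix.mul_assoc (jᵀ * J (Fin n) F) j (-j)]
      _ = -(J (Fin n) F * j) := by rw [hjJ, Matrix.mul_neg]
  obtain ⟨Y, hYdef⟩ : ∃ Y : Matrix (Fin n ⊕ Fin n) (Fin n ⊕ Fin n) F, Y = J (Fin n) F * j :=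
    ⟨_, rfl⟩
  have hY : Yᵀ = Y := by
    rw [hYdef, Matrix.transpose_mul, Matrix.J_transpose, Matrix.mul_neg, hjJ', neg_neg]
  have hYi : (j * J (Fin n) F) * Y = 1 := by
    calc j * J (Fin n) F * Y = j * (J (Fin n) F * J (Fin n) F) * j := by
          rw [hYdef]
          simp only [Matrix.mul_assoc]
      _ = 1 := by
          rw [Matrix.J_squared, Matrix.mul_neg, Matrix.mul_one, Matrix.neg_mul, hj, neg_neg]
  have hcomm : j * S.1 = S.1 * j := by
    rw [hjdef]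
    exact (Commute.pow_self S.1 e).eq
  have hiso : S.1ᵀ * Y * S.1 = Y := by
    calc S.1ᵀ * Y * S.1 = S.1ᵀ * J (Fin n) F * (j * S.1) := by
          rw [hYdef]
          simp only [Matrix.mul_assoc]
      _ = (S.1ᵀ * J (Fin n) F * S.1) * j := by
          rw [hcomm]
          simp only [Matrix.mul_assoc]
      _ = Y := by rw [hSJ, hYdef]
  refine ⟨Fin n ⊕ Fin n, inferInstance, inferInstance, qfOf Y, S.1, ?_,
    qfOf_nondeg h2 Y (j * J (Fin n) F) hY hYi, qfOf_isom Y S.1 hiso, fun j' => Iff.rfl⟩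
  rw [Fintype.card_sum, Fintype.card_fin, two_mul]

end Cfsg.Agent.Lib.Helper94.PG
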