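-- helper94: project PG (S2474, helper8), package [SPN1]: `q ≡ 1 (mod 4)`, `k ≤ n`:
-- `S = diag(i A, (i A)⁻ᵀ)` with `A ∈ GL_n(q)` of order `s` has order `2 s` in `PSp_{2n}(q)`.
import Mathlib
import Cfsg.Agent.Lib.Helper8.PG.Defs
import Cfsg.Agent.Lib.Helper40.Elusive

set_option autoImplicit false

universe u

namespace Cfsg.Agent.Lib.Helper94.PG

open Matrix Polynomial Cfsg.Agent.Lib.Helper8.PG

section

variable {F : Type u} [Field F]

/-- powers of a block diagonal matrix. -/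
lemma blockDiag_pow {n : ℕ} (B D : Matrix (Fin n) (Fin n) F) (j : ℕ) :
    (fromBlocks B 0 0 D) ^ j = fromBlocks (B ^ j) 0 0 (D ^ j) := by
  induction j with
  | zero => rw [pow_zero, pow_zero, pow_zero, fromBlocks_one]
  | succ j ih =>
    rw [pow_succ, ih, fromBlocks_multiply, pow_succ, pow_succ]
    simp

lemma neg_one_blocks (n : ℕ) :
    (-1 : Matrix (Fin n ⊕ Fin n) (Fin n ⊕ Fin n) F) =
      fromBlocks (-1 : Matrix (Fin n) (Fin n) F) 0 0 (-1) := by
  rw [← fromBlocks_one, fromBlocks_neg, neg_zero]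

lemma block_eq_one {n : ℕ} {B D : Matrix (Fin n) (Fin n) F}
    (h : fromBlocks B 0 0 D = (1 : Matrix (Fin n ⊕ Fin n) (Fin n ⊕ Fin n) F)) : B = 1 := by
  rw [← fromBlocks_one, fromBlocks_inj] at h
  exact h.1

lemma block_eq_neg_one {n : ℕ} {B D : Matrix (Fin n) (Fin n) F}
    (h : fromBlocks B 0 0 D = (-1 : Matrix (Fin n ⊕ Fin n) (Fin n ⊕ Fin n) F)) : B = -1 := by
  rw [neg_one_blocks, fromBlocks_inj] at h
  exact h.1

/-- a matrix of prime order `s ≠ p` in dimension `n ≥ k`. -/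
theorem exists_order_s [Fintype F] (p : ℕ) [Fact p.Prime] [CharP F p] (n s : ℕ) (hs : s.Prime)
    (hsp : s ≠ p) (hk : orderOf ((Fintype.card F : ℕ) : ZMod s) ≤ n) :
    ∃ A : Matrix (Fin n) (Fin n) F, A ^ s = 1 ∧ A ≠ 1 := by
  classical
  have : Fact s.Prime := ⟨hs⟩
  obtain ⟨S, hS, ⟨π₀, hπ₀⟩⟩ := Cfsg.Agent.Lib.Helper40.Elusive.exists_factors (F := F) rfl s hsp
  obtain ⟨a, hadef⟩ : ∃ a : S → ℕ, a = fun π => if π.1 = π₀ then 1 else 0 := ⟨_, rfl⟩
  have hsum : ∑ π, a π = 1 := by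
    rw [Finset.sum_eq_single ⟨π₀, hπ₀⟩]
    · simp [hadef]
    · intro b _ hb
      have : b.1 ≠ π₀ := fun h => hb (Subtype.ext h)
      simp [hadef, this]
    · intro h
      exact absurd (Finset.mem_univ _) h
  have ha : orderOf ((Fintype.card F : ℕ) : ZMod s) * ∑ π, a π ≤ n := by
    rw [hsum, mul_one]
    exact hk
  obtain ⟨g, hg, hχ⟩ := Cfsg.Agent.Lib.Helper40.PrimeOrderGL.exists_GL_chi p hS hs.pos a ha
  refine ⟨(g : Matrix (Fin n) (Fin n) F), ?_, ?_⟩
  · rw [← Units.val_pow_eq_pow_val, hg]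
    rfl
  · intro h1
    have hdvd : π₀ ∣ (g : Matrix (Fin n) (Fin n) F).charpoly := by
      rw [hχ]
      unfold Cfsg.Agent.Lib.Helper40.PrimeOrderGL.chi
      apply Dvd.dvd.mul_left
      have h2 := Finset.dvd_prod_of_mem (fun π : S => π.1 ^ a π)
        (Finset.mem_univ (⟨π₀, hπ₀⟩ : S))
      simpa [hadef] using h2
    rw [h1, Matrix.charpoly_one] at hdvd
    have hirr := hS.irred π₀ hπ₀
    have h3 : π₀ ∣ (X - 1 : F[X]) := hirr.prime.dvd_of_dvd_pow hdvd
    have h4 : (X - 1 : F[X]) = X - C 1 := by rw [C_1]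
    rw [h4] at h3
    have h5 : Associated π₀ (X - C 1 : F[X]) :=
      (((irreducible_X_sub_C (1 : F)).dvd_iff.mp h3).resolve_left hirr.not_isUnit).symm
    have h6 : π₀ = X - C 1 :=
      eq_of_monic_of_associated (hS.monic π₀ hπ₀) (monic_X_sub_C 1) h5
    exact hS.notMem (h6 ▸ hπ₀)

end

/-- **[SPN1]** -/
theorem pkgSpN1 : PkgSpN1.{u} := by
  intro F _ _ p _ _ n s k hs hs2 hsp hk hkn hq4
  have h2 : (2 : F) ≠ 0 := by
    apply Ring.two_ne_zero
    intro hchar
    have := FiniteField.even_card_of_char_two hchar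
    omega
  obtain ⟨i, hi⟩ : IsSquare (-1 : F) := FiniteField.isSquare_neg_one_iff.mpr (by omega)
  obtain ⟨A, hAs, hA1⟩ := exists_order_s (F := F) p n s hs hsp (hk ▸ hkn)
  -- `1 ≠ -1` as matrices
  have hne : (1 : Matrix (Fin n) (Fin n) F) ≠ -1 := by
    intro h
    apply hA1
    ext a b
    exfalso
    have h3 := congrFun (congrFun h a) a
    rw [Matrix.neg_apply, Matrix.one_apply_eq] at h3
    apply h2
    linear_combination h3
  obtain ⟨t, ht⟩ : ∃ t, s = 2 * t + 1 := by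
    rcases hs.eq_two_or_odd with h | h
    · exact absurd h hs2
    · exact ⟨s / 2, by omega⟩
  have hii : i * i = -1 := hi.symm
  obtain ⟨B, hB⟩ : ∃ B : Matrix (Fin n) (Fin n) F, B = i • A := ⟨_, rfl⟩
  obtain ⟨Bi, hBi⟩ : ∃ Bi : Matrix (Fin n) (Fin n) F, Bi = (-i) • A ^ (s - 1) := ⟨_, rfl⟩
  have hAA : A * A ^ (s - 1) = 1 := by
    rw [← pow_succ']
    have : s - 1 + 1 = s := by have := hs.pos; omega
    rw [this, hAs]
  have hAA' : A ^ (s - 1) * A = 1 := by
    rw [← pow_succ]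
    have : s - 1 + 1 = s := by have := hs.pos; omega
    rw [this, hAs]
  have hone : ∀ c : F, c = 1 → c • (1 : Matrix (Fin n) (Fin n) F) = 1 := by
    intro c hc
    rw [hc, one_smul]
  have hBBi : B * Bi = 1 := by
    rw [hB, hBi, Matrix.smul_mul, Matrix.mul_smul, hAA, smul_smul]
    apply hone
    linear_combination -hii
  have hBiB : Bi * B = 1 := by
    rw [hB, hBi, Matrix.smul_mul, Matrix.mul_smul, hAA', smul_smul]
    apply hone
    linear_combination -hii
  have hBpow : ∀ j : ℕ, B ^ j = i ^ j • A ^ j := by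
    intro j
    rw [hB, _root_.smul_pow]
  have hB2s : B ^ (2 * s) = -1 := by
    have e1 : i ^ (2 * s) = -1 := by
      rw [pow_mul, pow_two, hii, ht]
      exact Odd.neg_one_pow ⟨t, rfl⟩
    have e2 : A ^ (2 * s) = 1 := by
      rw [mul_comm, pow_mul, hAs, one_pow]
    rw [hBpow, e1, e2, neg_one_smul]
  have hBi2s : Bi ^ (2 * s) = -1 := by
    have hc : Commute Bi B := by
      show Bi * B = B * Bi
      rw [hBiB, hBBi]
    have h3 : Bi ^ (2 * s) * B ^ (2 * s) = 1 := by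
      rw [← hc.mul_pow, hBiB, one_pow]
    rw [hB2s, Matrix.mul_neg, Matrix.mul_one] at h3
    rw [← h3, neg_neg]
  -- the symplectic matrix
  have hmem : fromBlocks B 0 0 Biᵀ ∈ Matrix.symplecticGroup (Fin n) F := by
    rw [SymplecticGroup.mem_iff, Matrix.J, fromBlocks_transpose, fromBlocks_multiply,
      fromBlocks_multiply]
    simp only [Matrix.mul_zero, Matrix.zero_mul, Matrix.mul_one, Matrix.mul_neg, add_zero,
      zero_add, Matrix.transpose_zero, Matrix.transpose_transpose, neg_zero, Matrix.neg_mul]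
    rw [hBBi, ← Matrix.transpose_mul, hBBi, Matrix.transpose_one]
  refine ⟨⟨fromBlocks B 0 0 Biᵀ, hmem⟩, ?_, ?_, ?_⟩
  · right
    show (fromBlocks B 0 0 Biᵀ) ^ (2 * s) = -1
    rw [blockDiag_pow, hB2s, ← Matrix.transpose_pow, hBi2s, neg_one_blocks, Matrix.transpose_neg,
      Matrix.transpose_one]
  · show ¬ ((fromBlocks B 0 0 Biᵀ) ^ 2 = 1 ∨ (fromBlocks B 0 0 Biᵀ) ^ 2 = -1)
    rw [blockDiag_pow]
    have hB2 : B ^ 2 = -(A ^ 2) := by
      rw [hBpow, pow_two i, hii, neg_one_smul]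
    have hApow : A ^ s = A * (A ^ 2) ^ t := by
      rw [ht, pow_succ', pow_mul]
    rintro (h | h)
    · have h3 : A ^ 2 = -1 := by
        have := block_eq_one h
        rw [hB2] at this
        rw [← this, neg_neg]
      rw [hAs, h3] at hApow
      -- `A = ± 1`, so `A ^ 2 = 1`
      have h4 : A ^ 2 = 1 := by
        have h5 : A = (-1 : Matrix (Fin n) (Fin n) F) ^ t := by
          have h6 : A * (-1) ^ t * (-1 : Matrix (Fin n) (Fin n) F) ^ t = (-1) ^ t := by
            rw [← hApow, one_mul]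
          rw [Matrix.mul_assoc, ← pow_add, ← two_mul, pow_mul] at h6
          simpa using h6
        rw [h5, ← pow_mul, mul_comm, pow_mul]
        simp
      rw [h4] at h3
      exact hne h3
    · have h3 : A ^ 2 = 1 := by
        have := block_eq_neg_one h
        rw [hB2] at this
        exact neg_injective this
      rw [hAs, h3, one_pow, mul_one] at hApow
      exact hA1 hApow.symm
  · show ¬ ((fromBlocks B 0 0 Biᵀ) ^ s = 1 ∨ (fromBlocks B 0 0 Biᵀ) ^ s = -1)
    rw [blockDiag_pow]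
    have hsq : ∀ X : Matrix (Fin n) (Fin n) F, X = 1 ∨ X = -1 → X ^ 2 = 1 := by
      rintro X (h | h) <;> rw [h] <;> simp
    intro h
    have h3 : B ^ s = 1 ∨ B ^ s = -1 := by
      rcases h with h | h
      · exact Or.inl (block_eq_one h)
      · exact Or.inr (block_eq_neg_one h)
    have h4 := hsq _ h3
    rw [← pow_mul, mul_comm, hB2s] at h4
    exact hne h4.symm

end Cfsg.Agent.Lib.Helper94.PG
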